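import Mathlib.RingTheory.LocalRing.MaximalIdeal.Basic
import Mathlib.RingTheory.Ideal.Operations
import Mathlib.RingTheory.Nakayama
import Mathlib.RingTheory.Ideal.KrullsHeightTheorem
import Mathlib.RingTheory.RegularLocalRing.Defs
import Mathlib.RingTheory.Filtration
import Mathlib.GroupTheory.PGroup
import Mathlib.Algebra.Module.ZMod
import Mathlib.Algebra.Algebra.Subalgebra.Lattice
import Mathlib.RingTheory.Adjoin.Basic

/-!
# Group actions on local rings and systems of parameters
-/

set_option autoImplicit false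

universe u v

open IsLocalRing

namespace Groth.Agent.Lib.WildAdm.Basic

variable {A : Type u} [CommRing A] [IsLocalRing A] {G : Type v} [Group G] [MulSemiringAction G A]

lemma smul_mem (g : G) {x : A} (hx : x ∈ maximalIdeal A) : g • x ∈ maximalIdeal A := fun h => by
  have h1 := h.map (MulSemiringAction.toRingHom G A g⁻¹)
  rw [MulSemiringAction.toRingHom_apply, inv_smul_smul] at h1
  exact hx h1

lemma smul_mem_sq (g : G) {x : A} (hx : x ∈ maximalIdeal A ^ 2) : g • x ∈ maximalIdeal A ^ 2 := by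
  have h1 := Ideal.mem_map_of_mem (MulSemiringAction.toRingHom G A g) hx
  rw [Ideal.map_pow] at h1
  exact Ideal.pow_right_mono ((Ideal.map_le_iff_le_comap (f := MulSemiringAction.toRingHom G A g) (K := maximalIdeal A)).mpr
    fun y hy => smul_mem g hy) 2 h1

omit [IsLocalRing A] in
lemma prod_mem [Fintype G] (g : G) (u : A) {I : Ideal A} (h : g • u ∈ I) :
    ∏ σ : G, σ • u ∈ I := by
  classical
  rw [← Finset.mul_prod_erase _ _ (Finset.mem_univ g)]
  exact Ideal.mul_mem_right _ _ h

omit [IsLocalRing A] in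
/-- A prime containing all norms contains a choice of conjugates. -/
lemma exists_choice [Fintype G] {n : ℕ} (u : Fin n → A) (S : Finset (Fin n)) (τ : Fin n → G)
    {P : Ideal A} [hP : P.IsPrime] (hS : ∀ i ∈ S, (∏ σ : G, σ • u i) ∈ P)
    (hτ : ∀ i ∉ S, τ i • u i ∈ P) : ∃ τ' : Fin n → G, ∀ i, τ' i • u i ∈ P := by
  suffices h : ∀ i, ∃ g : G, g • u i ∈ P from ⟨fun i => (h i).choose, fun i => (h i).choose_spec⟩
  intro i
  by_cases hi : i ∈ S
  · obtain ⟨g, -, hg⟩ := hP.prod_mem_iff.mp (hS i hi)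
    exact ⟨g, hg⟩
  · exact ⟨τ i, hτ i hi⟩

omit [IsLocalRing A] in
lemma le_radical_of_forall {n : ℕ} [Fintype G] (u : Fin n → A) {M : Ideal A}
    (hwa : ∀ τ : Fin n → G, M ≤ (Ideal.span (Set.range fun i => τ i • u i)).radical)
    (S : Finset (Fin n)) (τ : Fin n → G) {J : Ideal A}
    (hS : ∀ i ∈ S, (∏ σ : G, σ • u i) ∈ J) (hτ : ∀ i ∉ S, τ i • u i ∈ J) : M ≤ J.radical := by
  rw [Ideal.radical_eq_sInf]
  refine le_sInf fun P hP => ?_
  haveI := hP.2
  obtain ⟨τ', hτ'⟩ := exists_choice u S τ (P := P) (fun i hi => hP.1 (hS i hi)) fun i hi => hP.1 (hτ i hi)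
  refine (hwa τ').trans (hP.2.isRadical.radical_le_iff.mpr ?_)
  rw [Ideal.span_le]
  rintro _ ⟨i, rfl⟩
  exact hτ' i

/-- A triangular action gives an admissible system. -/
theorem span_eq_of_triangular [IsNoetherianRing A] [Finite G] {n : ℕ}
    (hn : (maximalIdeal A).spanFinrank = n) (u : Fin n → A)
    (hu : Ideal.span (Set.range u) = maximalIdeal A)
    (htri : ∀ (σ : G) (i : Fin n),
      σ • u i ∈ Ideal.span (u '' {j | j ≤ i}) ⊔ maximalIdeal A ^ 2) (τ : Fin n → G) :
    Ideal.span (Set.range fun i => τ i • u i) = maximalIdeal A := by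
  classical
  have hum : ∀ i, u i ∈ maximalIdeal A := fun i => hu ▸ Ideal.subset_span ⟨i, rfl⟩
  let T : Ideal A := Ideal.span (Set.range fun i => τ i • u i)
  have hTm : T ≤ maximalIdeal A := Ideal.span_le.mpr (by rintro _ ⟨i, rfl⟩; exact smul_mem _ (hum i))
  let V : Fin n → Ideal A := fun i => Ideal.span (u '' {j | j < i}) ⊔ maximalIdeal A ^ 2
  have hsplit : ∀ (σ : G) (i : Fin n), ∃ a : A, σ • u i - a * u i ∈ V i := by
    intro σ i
    have hle : Ideal.span (u '' {j | j ≤ i}) ⊔ maximalIdeal A ^ 2 ≤ Ideal.span {u i} ⊔ V i := by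
      refine sup_le (Ideal.span_le.mpr ?_) (le_sup_right.trans le_sup_right)
      rintro _ ⟨j, hj, rfl⟩
      rcases lt_or_eq_of_le (show j ≤ i from hj) with h | h
      · exact Ideal.mem_sup_right (Ideal.mem_sup_left (Ideal.subset_span ⟨j, h, rfl⟩))
      · exact Ideal.mem_sup_left (h ▸ Ideal.mem_span_singleton_self _)
    obtain ⟨y, hy, z, hz, hyz⟩ := Submodule.mem_sup.mp (hle (htri σ i))
    obtain ⟨a, rfl⟩ := Ideal.mem_span_singleton'.mp hy
    exact ⟨a, by rw [← hyz, add_sub_cancel_left]; exact hz⟩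
  have hstab : ∀ (σ : G) (i : Fin n) (x : A), x ∈ V i → σ • x ∈ V i := by
    intro σ i x hx
    have h1 := Ideal.mem_map_of_mem (MulSemiringAction.toRingHom G A σ) hx
    refine Ideal.map_le_iff_le_comap.mpr (sup_le (Ideal.span_le.mpr ?_) ?_) h1
    · rintro _ ⟨j, hj, rfl⟩
      change σ • u j ∈ V i
      have hmono : Ideal.span (u '' {l | l ≤ j}) ⊔ maximalIdeal A ^ 2 ≤
          Ideal.span (u '' {l | l < i}) ⊔ maximalIdeal A ^ 2 :=
        sup_le ((Ideal.span_mono (Set.image_mono fun l hl =>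
          lt_of_le_of_lt (show l ≤ j from hl) (show j < i from hj))).trans le_sup_left) le_sup_right
      exact hmono (htri σ j)
    · exact fun y hy => Ideal.mem_sup_right (smul_mem_sq σ hy)
  -- a generator is never redundant
  have hnot : ∀ i, u i ∉ V i := by
    intro i hi
    have hle : Ideal.span (Set.range u) ≤ Ideal.span (u '' {j | j ≠ i}) ⊔ maximalIdeal A ^ 2 := by
      rw [Ideal.span_le]
      rintro _ ⟨j, rfl⟩
      by_cases h : j = i
      · subst h
        have hmono : Ideal.span (u '' {l | l < j}) ⊔ maximalIdeal A ^ 2 ≤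
            Ideal.span (u '' {l | l ≠ j}) ⊔ maximalIdeal A ^ 2 :=
          sup_le ((Ideal.span_mono (Set.image_mono fun l hl =>
            ne_of_lt (show l < j from hl))).trans le_sup_left) le_sup_right
        exact hmono hi
      · exact Ideal.mem_sup_left (Ideal.subset_span ⟨j, h, rfl⟩)
    rw [hu] at hle
    have hgen : maximalIdeal A ≤ Ideal.span (u '' {j | j ≠ i}) := by
      refine Submodule.le_of_le_smul_of_le_jacobson_bot (I := maximalIdeal A)
        (IsNoetherian.noetherian _) (IsLocalRing.maximalIdeal_le_jacobson _) ?_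
      rw [smul_eq_mul, ← pow_two]
      exact hle
    have heq : Ideal.span (u '' {j | j ≠ i}) = maximalIdeal A :=
      le_antisymm (Ideal.span_le.mpr (by rintro _ ⟨j, -, rfl⟩; exact hum j)) hgen
    have h3 : (maximalIdeal A).spanFinrank ≤ (u '' {j | j ≠ i}).ncard := by
      rw [← heq]
      exact Submodule.spanFinrank_span_le_ncard_of_finite (Set.toFinite _)
    have h4 : ({j : Fin n | j ≠ i}).ncard = n - 1 := by
      rw [Set.ncard_eq_toFinset_card']
      simp [Finset.filter_ne', Finset.card_erase_of_mem]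
    have h5 := Set.ncard_image_le (f := u) (Set.toFinite {j : Fin n | j ≠ i})
    have := i.2
    omega
  have hunit : ∀ (σ : G) (i : Fin n) (a : A), σ • u i - a * u i ∈ V i → IsUnit a := by
    intro σ i a ha
    by_contra hna
    have hau : a * u i ∈ V i := Ideal.mem_sup_right (by
      rw [pow_two]; exact Ideal.mul_mem_mul hna (hum i))
    have hσ : σ • u i ∈ V i := by
      have := add_mem ha hau
      rwa [sub_add_cancel] at this
    have := hstab σ⁻¹ i _ hσ
    rw [inv_smul_smul] at this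
    exact hnot i this
  have hmem : ∀ k : ℕ, ∀ i : Fin n, (i : ℕ) < k → u i ∈ T ⊔ maximalIdeal A ^ 2 := by
    intro k
    induction k with
    | zero => intro i hi; omega
    | succ k ih =>
      intro i hi
      obtain ⟨a, ha⟩ := hsplit (τ i) i
      obtain ⟨a', rfl⟩ := hunit _ _ _ ha
      have hV : V i ≤ T ⊔ maximalIdeal A ^ 2 := by
        refine sup_le (Ideal.span_le.mpr ?_) le_sup_right
        rintro _ ⟨j, hj, rfl⟩
        exact ih j (lt_of_lt_of_le (show (j : ℕ) < i from hj) (Nat.lt_succ_iff.mp hi))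
      have h1 : (a' : A) * u i ∈ T ⊔ maximalIdeal A ^ 2 := by
        have := sub_mem (show τ i • u i ∈ T ⊔ maximalIdeal A ^ 2 from
          Ideal.mem_sup_left (Ideal.subset_span ⟨i, rfl⟩)) (hV ha)
        rwa [sub_sub_cancel] at this
      have h2 := Ideal.mul_mem_left _ ((a'⁻¹ : Aˣ) : A) h1
      rwa [← mul_assoc, Units.inv_mul, one_mul] at h2
  refine le_antisymm hTm (Submodule.le_of_le_smul_of_le_jacobson_bot (I := maximalIdeal A)
    (IsNoetherian.noetherian _) (IsLocalRing.maximalIdeal_le_jacobson _) ?_)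
  rw [smul_eq_mul, ← pow_two]
  conv_lhs => rw [← hu]
  rw [Ideal.span_le]
  rintro _ ⟨i, rfl⟩
  exact hmem (i + 1) i (Nat.lt_succ_self _)

/-- A `p`-group acting trivially on the residue field fixes a vector of any proper stable quotient of
the cotangent space. -/
theorem exists_fixed_mod (p : ℕ) [hp : Fact p.Prime] [CharP A p] (hG : IsPGroup p G) [Finite G]
    (I : Ideal A) (hI : ∀ (σ : G) (x : A), x ∈ I → σ • x ∈ I) {x₀ : A} (hx₀ : x₀ ∈ maximalIdeal A)
    (hx₀I : x₀ ∉ I) : ∃ u ∈ maximalIdeal A, u ∉ I ∧ ∀ σ : G, σ • u - u ∈ I := by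
  classical
  let q : A →+ A ⧸ I := (Ideal.Quotient.mk I).toAddMonoidHom
  let W : AddSubgroup (A ⧸ I) := AddSubgroup.closure (Set.range fun σ : G => q (σ • x₀))
  letI : Module (ZMod p) W := AddCommGroup.zmodModule fun w => Subtype.ext (by
    rw [AddSubmonoidClass.coe_nsmul, ZeroMemClass.coe_zero]
    obtain ⟨a, ha⟩ := Ideal.Quotient.mk_surjective (w : A ⧸ I)
    rw [← ha, ← map_nsmul, nsmul_eq_mul, CharP.cast_eq_zero, zero_mul, map_zero])
  haveI : Module.Finite ℤ W := by
    have : W.FG := ⟨(Set.finite_range fun σ : G => q (σ • x₀)).toFinset, by simp [W]⟩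
    exact Module.Finite.iff_addGroup_fg.mpr ((AddGroup.fg_iff_addSubgroup_fg W).mpr this)
  haveI : Module.Finite (ZMod p) W := Module.Finite.of_restrictScalars_finite ℤ (ZMod p) W
  haveI : Finite W := by
    obtain ⟨m, f, hf⟩ := Module.Finite.exists_fin' (ZMod p) W
    exact Finite.of_surjective f hf
  have hW : ∀ (σ : G) (a : A), q a ∈ W → q (σ • a) ∈ W := by
    intro σ a ha
    let S : AddSubgroup A := W.comap q
    suffices h : S ≤ S.comap (MulSemiringAction.toRingHom G A σ).toAddMonoidHom from h ha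
    have hS : S ≤ AddSubgroup.closure (Set.range fun σ : G => σ • x₀) ⊔ I.toAddSubgroup := by
      intro b hb
      have hb' : q b ∈ (AddSubgroup.closure (Set.range fun σ : G => σ • x₀)).map q := by
        rw [AddMonoidHom.map_closure, ← Set.range_comp]
        exact hb
      obtain ⟨c, hc, hcb⟩ := hb'
      rw [show b = c + (b - c) by abel]
      exact add_mem (le_sup_left (b := I.toAddSubgroup) hc)
        (le_sup_right (a := AddSubgroup.closure (Set.range fun σ : G => σ • x₀))
          (Ideal.Quotient.eq.mp hcb.symm))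
    refine hS.trans (sup_le ((AddSubgroup.closure_le _).mpr ?_) fun b hb => ?_)
    · rintro _ ⟨τ, rfl⟩
      change q (σ • τ • x₀) ∈ W
      rw [smul_smul]
      exact AddSubgroup.subset_closure ⟨σ * τ, rfl⟩
    · change q (σ • b) ∈ W
      rw [show q (σ • b) = 0 from Ideal.Quotient.eq_zero_iff_mem.mpr (hI σ b hb)]
      exact zero_mem _
  choose r hr using fun w : W => Ideal.Quotient.mk_surjective (w : A ⧸ I)
  have hcongr : ∀ (σ : G) (a b : A), q a = q b → q (σ • a) = q (σ • b) := fun σ a b h => by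
    refine Ideal.Quotient.eq.mpr ?_
    rw [← smul_sub]
    exact hI σ _ (Ideal.Quotient.eq.mp h)
  letI : MulAction G W :=
    { smul := fun σ w => ⟨q (σ • r w), hW σ _ ((hr w).symm ▸ w.2)⟩
      one_smul := fun w => Subtype.ext (by
        change q ((1 : G) • r w) = (w : A ⧸ I)
        rw [one_smul]; exact hr w)
      mul_smul := fun σ τ w => Subtype.ext (by
        change q ((σ * τ) • r w) = q (σ • r ⟨q (τ • r w), _⟩)
        rw [mul_smul]
        exact (hcongr σ _ _ (hr ⟨q (τ • r w), _⟩)).symm) }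
  have h0 : (0 : W) ∈ MulAction.fixedPoints G W := fun σ => Subtype.ext (by
    change q (σ • r 0) = 0
    refine Ideal.Quotient.eq_zero_iff_mem.mpr (hI σ _ (Ideal.Quotient.eq_zero_iff_mem.mp ?_))
    exact hr 0)
  let w₀ : W := ⟨q ((1 : G) • x₀), AddSubgroup.subset_closure ⟨1, rfl⟩⟩
  haveI : Nontrivial W := ⟨⟨w₀, 0, fun h => hx₀I (by
    have := congrArg Subtype.val h
    rw [← one_smul G x₀]
    exact Ideal.Quotient.eq_zero_iff_mem.mp this)⟩⟩
  have hdvd : p ∣ Nat.card W := by
    have hw0 : w₀ ≠ 0 := fun h => hx₀I (by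
      have := congrArg Subtype.val h
      rw [← one_smul G x₀]
      exact Ideal.Quotient.eq_zero_iff_mem.mp this)
    have hord : addOrderOf w₀ = p := addOrderOf_eq_prime
      (by rw [← Nat.cast_smul_eq_nsmul (ZMod p), ZMod.natCast_self, zero_smul]) hw0
    rw [← hord]
    exact addOrderOf_dvd_natCard w₀
  obtain ⟨w, hw, hw0⟩ := hG.exists_fixed_point_of_prime_dvd_card_of_fixed_point W hdvd h0
  refine ⟨r w, ?_, fun h => hw0 (Subtype.ext ((Ideal.Quotient.eq_zero_iff_mem.mpr h).symm.trans (hr w))),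
    fun σ => Ideal.Quotient.eq.mp ((congrArg Subtype.val (hw σ)).trans (hr w).symm)⟩
  by_contra hum
  have hu : IsUnit (r w) := not_not.mp hum
  have hle : W ≤ ((maximalIdeal A).map (Ideal.Quotient.mk I)).toAddSubgroup :=
    (AddSubgroup.closure_le _).mpr (by
      rintro _ ⟨σ, rfl⟩
      exact Ideal.mem_map_of_mem _ (smul_mem σ hx₀))
  have h1 : r w ∈ maximalIdeal A ⊔ I := by
    have := hle w.2
    rw [← hr w] at this
    exact (Ideal.mem_quotient_iff_mem_sup).mp this
  have hIm : I ≤ maximalIdeal A := IsLocalRing.le_maximalIdeal fun h => hx₀I (h ▸ Submodule.mem_top)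
  rw [sup_eq_left.mpr hIm] at h1
  exact h1 hu

/-- With a coefficient field the maximal ideal's generators generate the ring topologically. -/
theorem exists_mem_adjoin_sub_mem {k : Type*} [Field k] [Algebra k A]
    (hk : Function.Surjective (residue A ∘ algebraMap k A)) {n : ℕ} (u : Fin n → A)
    (hu : Ideal.span (Set.range u) = maximalIdeal A) (N : ℕ) (x : A) :
    ∃ s ∈ Algebra.adjoin k (Set.range u), x - s ∈ maximalIdeal A ^ N := by
  induction N generalizing x with
  | zero => exact ⟨0, zero_mem _, by simp⟩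
  | succ N ih =>
    obtain ⟨c, hc⟩ := hk (residue A x)
    have hxm : x - algebraMap k A c ∈ Ideal.span (Set.range u) := by
      rw [hu, ← Ideal.Quotient.eq_zero_iff_mem]
      change residue A _ = 0
      rw [map_sub, ← hc]; exact sub_self _
    obtain ⟨b, hb⟩ := Ideal.mem_span_range_iff_exists_fun.mp hxm
    choose s hs hbs using fun i => ih (b i)
    refine ⟨algebraMap k A c + ∑ i, s i * u i, add_mem (Subalgebra.algebraMap_mem _ _)
      (sum_mem fun i _ => mul_mem (hs i) (Algebra.subset_adjoin ⟨i, rfl⟩)), ?_⟩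
    rw [← sub_sub, ← hb, ← Finset.sum_sub_distrib]
    refine sum_mem fun i _ => ?_
    rw [← sub_mul, pow_succ]
    exact Ideal.mul_mem_mul (hbs i) (hu ▸ Ideal.subset_span ⟨i, rfl⟩)

/-- An element moving the generators inside `I` lies in the inertia of `I`. -/
theorem smul_sub_mem_of_gens [IsNoetherianRing A] {k : Type*} [Field k] [Algebra k A]
    (hk : Function.Surjective (residue A ∘ algebraMap k A)) {n : ℕ} (u : Fin n → A)
    (hu : Ideal.span (Set.range u) = maximalIdeal A) (σ : G)
    (hσk : ∀ c : k, σ • algebraMap k A c = algebraMap k A c) {I : Ideal A} (hI : I ≤ maximalIdeal A)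
    (hσ : ∀ i, σ • u i - u i ∈ I) (x : A) : σ • x - x ∈ I := by
  have hS : ∀ s ∈ Algebra.adjoin k (Set.range u), σ • s - s ∈ I := by
    intro s hs
    induction hs using Algebra.adjoin_induction with
    | mem y hy => obtain ⟨i, rfl⟩ := hy; exact hσ i
    | algebraMap c => rw [hσk, sub_self]; exact zero_mem _
    | add a b _ _ ha hb => rw [smul_add, add_sub_add_comm]; exact add_mem ha hb
    | mul a b _ _ ha hb =>
      rw [smul_mul', show σ • a * σ • b - a * b = (σ • a - a) * σ • b + a * (σ • b - b) by ring]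
      exact add_mem (Ideal.mul_mem_right _ _ ha) (Ideal.mul_mem_left _ _ hb)
  haveI : Nontrivial (A ⧸ I) := Ideal.Quotient.nontrivial_iff.mpr fun h =>
    (IsLocalRing.maximalIdeal.isMaximal A).ne_top (top_le_iff.mp (h ▸ hI))
  haveI : IsLocalRing (A ⧸ I) := IsLocalRing.of_surjective' _ Ideal.Quotient.mk_surjective
  rw [← Ideal.Quotient.eq_zero_iff_mem]
  have hmem : ∀ N, Ideal.Quotient.mk I (σ • x - x) ∈ ((maximalIdeal A).map (Ideal.Quotient.mk I)) ^ N := by
    intro N
    obtain ⟨s, hs, hxs⟩ := exists_mem_adjoin_sub_mem hk u hu N x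
    rw [show σ • x - x = σ • (x - s) - (x - s) + (σ • s - s) by rw [smul_sub]; ring, map_add,
      (Ideal.Quotient.eq_zero_iff_mem).mpr (hS s hs), add_zero, ← Ideal.map_pow]
    refine Ideal.mem_map_of_mem _ (sub_mem ?_ hxs)
    have h1 := Ideal.mem_map_of_mem (MulSemiringAction.toRingHom G A σ) hxs
    rw [Ideal.map_pow] at h1
    exact Ideal.pow_right_mono ((Ideal.map_le_iff_le_comap (f := MulSemiringAction.toRingHom G A σ) (K := maximalIdeal A)).mpr
      fun y hy => smul_mem σ hy) N h1
  have hne : (maximalIdeal A).map (Ideal.Quotient.mk I) ≠ ⊤ := fun h => by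
    have := Ideal.comap_map_of_surjective (Ideal.Quotient.mk I) Ideal.Quotient.mk_surjective (maximalIdeal A)
    rw [h, Ideal.comap_top, ← RingHom.ker_eq_comap_bot, Ideal.mk_ker, sup_eq_left.mpr hI] at this
    exact (IsLocalRing.maximalIdeal.isMaximal A).ne_top this.symm
  have := Ideal.iInf_pow_eq_bot_of_isLocalRing _ hne
  exact (Submodule.mem_bot (R := A ⧸ I)).mp (this ▸ (Submodule.mem_iInf _).mpr hmem)

end Groth.Agent.Lib.WildAdm.Basic
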