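import Groth.Agent.H20.CMRegular
import Groth.Agent.Lib.Regular.Quotient
import Mathlib.RingTheory.Length
import Mathlib.Data.List.OfFn

/-!
# Lengths of quotients by norms of parameters
-/

set_option autoImplicit false

universe u v

open IsLocalRing RingTheory.Sequence

namespace Groth.Agent.Lib.WildAdm.Length

variable {A : Type u} [CommRing A]

section Mul

variable (J : Ideal A) (a b : A)

/-- multiplication by `a` from `A/(J, b)` to `A/(J, ab)` -/
def mulMap : (A ⧸ (J ⊔ Ideal.span {b})) →ₗ[A] (A ⧸ (J ⊔ Ideal.span {a * b})) :=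
  Submodule.mapQ _ _ (LinearMap.mulLeft A a) <| by
    refine sup_le (fun x hx => ?_) ?_
    · exact Ideal.mem_sup_left (Ideal.mul_mem_left _ _ hx)
    · rw [Ideal.span, Submodule.span_le, Set.singleton_subset_iff]
      exact Ideal.mem_sup_right (Ideal.mem_span_singleton_self _)

lemma le_sup : J ⊔ Ideal.span {a * b} ≤ J ⊔ Ideal.span {a} :=
  sup_le_sup_left ((Ideal.span_singleton_le_span_singleton).mpr (dvd_mul_right a b)) _

lemma range_mulMap : LinearMap.range (mulMap J a b) = LinearMap.ker (Submodule.factor (le_sup J a b)) := by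
  refine le_antisymm ?_ fun x hx => ?_
  · rintro _ ⟨x, rfl⟩
    obtain ⟨x, rfl⟩ := Submodule.Quotient.mk_surjective _ x
    rw [LinearMap.mem_ker]
    change Submodule.Quotient.mk (a * x) = 0
    rw [Submodule.Quotient.mk_eq_zero]
    exact Ideal.mem_sup_right (Ideal.mul_mem_right _ _ (Ideal.mem_span_singleton_self _))
  · obtain ⟨x, rfl⟩ := Submodule.Quotient.mk_surjective _ x
    rw [LinearMap.mem_ker] at hx
    change Submodule.Quotient.mk x = 0 at hx
    rw [Submodule.Quotient.mk_eq_zero] at hx
    obtain ⟨j, hj, y, hy, rfl⟩ := Submodule.mem_sup.mp hx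
    obtain ⟨t, rfl⟩ := Ideal.mem_span_singleton'.mp hy
    refine ⟨Submodule.Quotient.mk t, ?_⟩
    change Submodule.Quotient.mk (a * t) = _
    rw [Submodule.Quotient.eq]
    have : a * t - (j + t * a) = -j := by ring
    rw [this]
    exact Ideal.mem_sup_left (neg_mem hj)

lemma length_mul_eq : Module.length A (A ⧸ (J ⊔ Ideal.span {a * b})) =
    Module.length A (LinearMap.range (mulMap J a b)) + Module.length A (A ⧸ (J ⊔ Ideal.span {a})) := by
  refine Module.length_eq_add_of_exact (LinearMap.range (mulMap J a b)).subtype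
    (Submodule.factor (le_sup J a b)) (Submodule.subtype_injective _)
    (Submodule.factor_surjective _) ?_
  rw [LinearMap.exact_iff, Submodule.range_subtype, range_mulMap]

theorem length_mul_le : Module.length A (A ⧸ (J ⊔ Ideal.span {a * b})) ≤
    Module.length A (A ⧸ (J ⊔ Ideal.span {a})) + Module.length A (A ⧸ (J ⊔ Ideal.span {b})) := by
  rw [length_mul_eq, add_comm]
  exact add_le_add le_rfl
    (Module.length_le_of_surjective _ (LinearMap.surjective_rangeRestrict (mulMap J a b)))

theorem length_mul_ge (ha : ∀ x, a * x ∈ J → x ∈ J) :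
    Module.length A (A ⧸ (J ⊔ Ideal.span {a})) + Module.length A (A ⧸ (J ⊔ Ideal.span {b})) ≤
      Module.length A (A ⧸ (J ⊔ Ideal.span {a * b})) := by
  rw [length_mul_eq, add_comm (Module.length A (LinearMap.range _))]
  refine add_le_add le_rfl ?_
  refine Module.length_le_of_injective _ ((LinearMap.ker_rangeRestrict _).trans ?_ |>
    LinearMap.ker_eq_bot.mp)
  rw [eq_bot_iff]
  intro x hx
  obtain ⟨x, rfl⟩ := Submodule.Quotient.mk_surjective _ x
  rw [LinearMap.mem_ker] at hx
  change Submodule.Quotient.mk (a * x) = 0 at hx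
  rw [Submodule.Quotient.mk_eq_zero] at hx
  obtain ⟨j, hj, y, hy, hxy⟩ := Submodule.mem_sup.mp hx
  obtain ⟨t, rfl⟩ := Ideal.mem_span_singleton'.mp hy
  have h1 : a * (x - t * b) ∈ J := by
    rw [show a * (x - t * b) = j by linear_combination -hxy]
    exact hj
  rw [Submodule.mem_bot, Submodule.Quotient.mk_eq_zero,
    show x = (x - t * b) + t * b by ring]
  exact add_mem (Ideal.mem_sup_left (ha _ h1))
    (Ideal.mem_sup_right (Ideal.mul_mem_left _ _ (Ideal.mem_span_singleton_self _)))

end Mul

theorem length_prod_le {κ : Type v} (J : Ideal A) (a : κ → A) (F : Finset κ) :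
    Module.length A (A ⧸ (J ⊔ Ideal.span {∏ x ∈ F, a x})) ≤
      ∑ x ∈ F, Module.length A (A ⧸ (J ⊔ Ideal.span {a x})) := by
  classical
  induction F using Finset.induction_on with
  | empty =>
    haveI : Subsingleton (A ⧸ (J ⊔ Ideal.span {∏ x ∈ (∅ : Finset κ), a x})) :=
      Submodule.Quotient.subsingleton_iff.mpr (by simp)
    rw [Finset.sum_empty]
    exact le_of_eq Module.length_eq_zero
  | insert x F hx ih =>
    rw [Finset.prod_insert hx, Finset.sum_insert hx]
    exact (length_mul_le J _ _).trans (add_le_add le_rfl ih)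

theorem length_prod_ge {κ : Type v} (J : Ideal A) (a : κ → A) (F : Finset κ)
    (ha : ∀ x ∈ F, ∀ y, a x * y ∈ J → y ∈ J) :
    ∑ x ∈ F, Module.length A (A ⧸ (J ⊔ Ideal.span {a x})) ≤
      Module.length A (A ⧸ (J ⊔ Ideal.span {∏ x ∈ F, a x})) := by
  classical
  induction F using Finset.induction_on with
  | empty => simp
  | insert x F hx ih =>
    rw [Finset.prod_insert hx, Finset.sum_insert hx]
    exact (add_le_add le_rfl (ih fun z hz => ha z (Finset.mem_insert_of_mem hz))).trans
      (length_mul_ge J _ _ (ha x (Finset.mem_insert_self _ _)))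

section Family

variable {G : Type v} [Fintype G] {n : ℕ} (c : Fin n → G → A)

/-- the mixed family: products on `S`, chosen entries elsewhere -/
def mix (S : Finset (Fin n)) (τ : Fin n → G) (i : Fin n) : A :=
  if i ∈ S then ∏ g, c i g else c i (τ i)

lemma span_range_eq_sup (f : Fin n → A) (i : Fin n) :
    Ideal.span (Set.range f) = Ideal.span (f '' {j | j ≠ i}) ⊔ Ideal.span {f i} := by
  rw [← Ideal.span_union]
  congr 1
  ext x
  constructor
  · rintro ⟨j, rfl⟩
    by_cases h : j = i
    · exact Or.inr (h ▸ rfl)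
    · exact Or.inl ⟨j, h, rfl⟩
  · rintro (⟨j, -, rfl⟩ | rfl) <;> exact ⟨_, rfl⟩

lemma mix_update (S : Finset (Fin n)) (τ : Fin n → G) (i : Fin n) (hi : i ∉ S) (g : G) :
    Ideal.span (mix c (insert i S) τ '' {j | j ≠ i}) ⊔ Ideal.span {c i g} =
      Ideal.span (Set.range (mix c S (Function.update τ i g))) := by
  rw [span_range_eq_sup (mix c S (Function.update τ i g)) i]
  congr 2
  · refine Set.image_congr fun j hj => ?_
    simp only [mix, Finset.mem_insert, or_iff_right (show j ≠ i from hj),
      Function.update_of_ne (show j ≠ i from hj)]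
  · simp [mix, hi]

lemma mix_insert (S : Finset (Fin n)) (τ : Fin n → G) (i : Fin n) :
    Ideal.span (Set.range (mix c (insert i S) τ)) =
      Ideal.span (mix c (insert i S) τ '' {j | j ≠ i}) ⊔ Ideal.span {∏ g, c i g} := by
  rw [span_range_eq_sup (mix c (insert i S) τ) i]
  simp [mix]

theorem length_mix_le (h : ∀ τ : Fin n → G, Module.length A (A ⧸ Ideal.span (Set.range fun i => c i (τ i))) ≤ 1)
    (S : Finset (Fin n)) : ∀ τ : Fin n → G,
    Module.length A (A ⧸ Ideal.span (Set.range (mix c S τ))) ≤ (Fintype.card G ^ S.card : ℕ) := by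
  classical
  induction S using Finset.induction_on with
  | empty =>
    intro τ
    rw [show mix c ∅ τ = fun i => c i (τ i) from funext fun i => by simp [mix]]
    simpa using h τ
  | insert i S hi ih =>
    intro τ
    rw [mix_insert, Finset.card_insert_of_notMem hi, pow_succ']
    refine (length_prod_le _ _ _).trans ?_
    refine (Finset.sum_le_card_nsmul _ _ ((Fintype.card G ^ S.card : ℕ) : ℕ∞) fun g _ => ?_).trans ?_
    · rw [mix_update c S τ i hi]
      exact ih _
    · rw [Finset.card_univ, nsmul_eq_mul, Nat.cast_mul]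

theorem length_mix_ge
    (hnz : ∀ (S : Finset (Fin n)) (τ : Fin n → G) (i : Fin n), i ∉ S → ∀ y,
      c i (τ i) * y ∈ Ideal.span (mix c S τ '' {j | j ≠ i}) → y ∈ Ideal.span (mix c S τ '' {j | j ≠ i}))
    (h : ∀ τ : Fin n → G, 1 ≤ Module.length A (A ⧸ Ideal.span (Set.range fun i => c i (τ i))))
    (S : Finset (Fin n)) : ∀ τ : Fin n → G,
    ((Fintype.card G ^ S.card : ℕ) : ℕ∞) ≤ Module.length A (A ⧸ Ideal.span (Set.range (mix c S τ))) := by
  classical
  induction S using Finset.induction_on with
  | empty =>
    intro τ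
    rw [show mix c ∅ τ = fun i => c i (τ i) from funext fun i => by simp [mix]]
    simpa using h τ
  | insert i S hi ih =>
    intro τ
    rw [mix_insert, Finset.card_insert_of_notMem hi, pow_succ']
    refine le_trans ?_ (length_prod_ge _ _ _ fun g _ y hy => ?_)
    · refine le_trans ?_ (Finset.card_nsmul_le_sum _ _ ((Fintype.card G ^ S.card : ℕ) : ℕ∞) fun g _ => ?_)
      · rw [Finset.card_univ, nsmul_eq_mul, Nat.cast_mul]
      · rw [mix_update c S τ i hi]
        exact ih _
    · have himg : mix c (insert i S) τ '' {j | j ≠ i} = mix c S (Function.update τ i g) '' {j | j ≠ i} :=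
        Set.image_congr fun j hj => by
          simp only [mix, Finset.mem_insert, or_iff_right (show j ≠ i from hj),
            Function.update_of_ne (show j ≠ i from hj)]
      rw [himg] at hy ⊢
      refine hnz S (Function.update τ i g) i hi y ?_
      rwa [Function.update_self]

end Family

section Params

variable [IsRegularLocalRing A]

lemma isCohenMacaulay : LocCoh.IsCohenMacaulayLocalRing A := by
  classical
  obtain ⟨rs, hrs, hlen⟩ : ∃ rs : List A,
      Ideal.ofList rs = maximalIdeal A ∧ rs.length = (maximalIdeal A).spanFinrank := by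
    have hfg : (maximalIdeal A).FG := IsNoetherian.noetherian _
    refine ⟨(Submodule.FG.finite_generators hfg).toFinset.toList, ?_, ?_⟩
    · simp only [Ideal.ofList, Finset.mem_toList, Set.Finite.mem_toFinset, Set.ofPred_mem_eq]
      exact Submodule.span_generators _
    · rw [Finset.length_toList,
        ← Set.ncard_eq_toFinset_card _ (Submodule.FG.finite_generators hfg),
        Submodule.FG.generators_ncard hfg]
  refine Groth.Agent.Lib.Depth.CM.isCohenMacaulayLocalRing_of_isRegular
    (Groth.Agent.Lib.Regular.Quotient.isRegular_of_span_eq_maximalIdeal rs hrs hlen) ?_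
  rw [hlen, IsRegularLocalRing.spanFinrank_maximalIdeal]

/-- A member of a system of parameters is a nonzerodivisor modulo the others. -/
theorem mem_of_mul_mem_of_params {n : ℕ} (hn : ringKrullDim A = n) (f : Fin n → A)
    (hf : ∀ i, f i ∈ maximalIdeal A) (hrad : maximalIdeal A ≤ (Ideal.span (Set.range f)).radical)
    (i : Fin n) (y : A) (hy : f i * y ∈ Ideal.span (f '' {j | j ≠ i})) :
    y ∈ Ideal.span (f '' {j | j ≠ i}) := by
  classical
  haveI := isCohenMacaulay (A := A)
  let l : List A := ((Finset.univ.erase i).toList.map f)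
  have hl : Ideal.ofList l = Ideal.span (f '' {j | j ≠ i}) := by
    rw [Ideal.ofList]
    congr 1
    ext x
    simp [l]
  have hall : Ideal.ofList (l ++ [f i]) = Ideal.span (Set.range f) := by
    rw [Ideal.ofList_append, Ideal.ofList_singleton, hl, span_range_eq_sup f i]
  have hlen : (l ++ [f i]).length = n := by
    simp only [l, List.length_append, List.length_map, Finset.length_toList, List.length_singleton,
      Finset.card_erase_of_mem (Finset.mem_univ i), Finset.card_univ, Fintype.card_fin]
    have := i.2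
    omega
  haveI : Ring.KrullDimLE 0 (A ⧸ Ideal.ofList (l ++ [f i])) := Ring.KrullDimLE.mk₀ fun P hP => by
    let Q := P.comap (Ideal.Quotient.mk (Ideal.ofList (l ++ [f i])))
    have hQ : Q = maximalIdeal A := by
      refine le_antisymm (IsLocalRing.le_maximalIdeal (hP.comap _).ne_top) (hrad.trans ?_)
      rw [← hall]
      refine (hP.comap _).isRadical.radical_le_iff.mpr fun x hx => ?_
      change Ideal.Quotient.mk _ x ∈ P
      rw [Ideal.Quotient.eq_zero_iff_mem.mpr hx]
      exact zero_mem _
    rw [← Ideal.map_comap_of_surjective _ Ideal.Quotient.mk_surjective P]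
    refine (Ideal.map_eq_top_or_isMaximal_of_surjective _ Ideal.Quotient.mk_surjective
      (I := Q) (hQ ▸ IsLocalRing.maximalIdeal.isMaximal _)).resolve_left ?_
    rw [Ideal.map_comap_of_surjective _ Ideal.Quotient.mk_surjective]
    exact hP.ne_top
  have hreg : IsRegular A (l ++ [f i]) := by
    refine Groth.Agent.H20.CMRegular.isRegular_of_ringKrullDim_le _ ?_ ?_
    · intro r hr
      simp only [l, List.mem_append, List.mem_map, List.mem_singleton] at hr
      rcases hr with ⟨j, -, rfl⟩ | rfl <;> exact hf _
    · rw [hlen, hn]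
      refine le_trans (add_le_add (b := (0 : WithBot ℕ∞)) ?_ le_rfl) (zero_add _).le
      exact (Ring.krullDimLE_iff (n := 0)).mp ‹_›
  have hw := (isWeaklyRegular_append_iff A l [f i]).mp hreg.toIsWeaklyRegular
  have hsm := ((isWeaklyRegular_cons_iff _ _ _).mp hw.2).1
  have h0 : Submodule.Quotient.mk (p := Ideal.ofList l • (⊤ : Submodule A A)) y = 0 := by
    refine hsm.right_eq_zero_of_smul (x := Submodule.Quotient.mk y) ?_
    rw [← Submodule.Quotient.mk_smul, Submodule.Quotient.mk_eq_zero, smul_eq_mul, smul_eq_mul,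
      Ideal.mul_top, hl]
    exact hy
  rw [Submodule.Quotient.mk_eq_zero, smul_eq_mul, Ideal.mul_top, hl] at h0
  exact h0

end Params

end Groth.Agent.Lib.WildAdm.Length
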